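import Cfsg.Agent.H190.IF.Root

/-!
# S5719: the steps for simply laced root group data (helper190)

* `Inv2 β z` : `z` is the involution of `⟨X β, X (-β)⟩`, contained in `⟨u, v⟩` for all `1 ≠ u ∈ X β`, `1 ≠ v ∈ X (-β)`;
* `ustep` : the involution with centraliser of type `D₅`: its root groups are contained in `A`;
* `phi_step`, `phi_start` : the index of subgroups without fundamental involutions.
-/

set_option autoImplicit false
set_option linter.unusedSectionVars false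

namespace Cfsg.Agent.H190.IF

open CoxeterSystem Cfsg.Agent.ChevalleyStructure.CoxeterGeom Cfsg.Agent.Tits.Roots Cfsg.Agent.Tits.Core
  Cfsg.Agent.Tits.Exchange Cfsg.Agent.Nodes.Reps Cfsg.Agent.Nodes.BNOf Cfsg.Agent.Nodes.StabComb
  Cfsg.Agent.Nodes.Bruhat Cfsg.Agent.Nodes.OppDec Cfsg.Agent.Nodes.PosPair Cfsg.Agent.Nodes.Coroot
  Cfsg.Agent.Nodes.Unique Cfsg.Agent.KFacts.RgdSL Cfsg.Agent.H557.LrSgn
open scoped commutatorElement

/-! ### numbers -/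

theorem pow_le_aux {n : ℕ} (hn : 6 ≤ n) : (n + 1) ^ 11 ≤ n ^ 12 := by
  have h1 : 6 * (n + 1) ≤ 7 * n := by omega
  have h2 := Nat.pow_le_pow_left h1 11
  rw [mul_pow, mul_pow] at h2
  have h3 : (7 : ℕ) ^ 11 ≤ 6 ^ 12 := by norm_num
  have h4 : 6 ^ 11 * (n + 1) ^ 11 ≤ 6 ^ 11 * n ^ 12 := by
    calc 6 ^ 11 * (n + 1) ^ 11 ≤ 7 ^ 11 * n ^ 11 := h2
      _ ≤ 6 ^ 12 * n ^ 11 := Nat.mul_le_mul_right _ h3
      _ = 6 ^ 11 * (6 * n ^ 11) := by ring
      _ ≤ 6 ^ 11 * (n * n ^ 11) := Nat.mul_le_mul_left _ (Nat.mul_le_mul_right _ hn)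
      _ = _ := by ring
  exact Nat.le_of_mul_le_mul_left h4 (by norm_num)

theorem num_u {q r : ℕ} (hq : 3 ≤ q) (hodd : Odd q) (hr : r ∣ q) (h : r ^ 5 * (q - 1) ^ 6 < q ^ 8) : r * r < q := by
  have hr0 : 0 < r := Nat.pos_of_dvd_of_pos hr (by omega)
  rcases Nat.lt_or_ge q 7 with h7 | h7
  · interval_cases q
    · have h1 := Nat.le_of_dvd (by norm_num) hr
      interval_cases r
      · norm_num
      · exact absurd hr (by norm_num)
      · norm_num at h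
    · exact absurd hodd (by decide)
    · have h1 := Nat.le_of_dvd (by norm_num) hr
      interval_cases r
      · norm_num
      · exact absurd hr (by norm_num)
      · exact absurd hr (by norm_num)
      · exact absurd hr (by norm_num)
      · norm_num at h
    · exact absurd hodd (by decide)
  · by_contra hcon
    push Not at hcon
    obtain ⟨n, rfl⟩ : ∃ n, q = n + 1 := ⟨q - 1, by omega⟩
    have h1 : n + 1 - 1 = n := by omega
    rw [h1] at h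
    have h2 := pow_le_aux (n := n) (by omega)
    have h3 := Nat.pow_le_pow_left hcon 5
    have h4 : (r ^ 5 * n ^ 6) ^ 2 < ((n + 1) ^ 8) ^ 2 := Nat.pow_lt_pow_left h (by norm_num)
    have h5 : ((n + 1) ^ 8) ^ 2 ≤ (r ^ 5 * n ^ 6) ^ 2 := by
      calc ((n + 1) ^ 8) ^ 2 = (n + 1) ^ 5 * (n + 1) ^ 11 := by ring
        _ ≤ (r * r) ^ 5 * n ^ 12 := Nat.mul_le_mul h3 h2
        _ = _ := by ring
    omega

theorem num_z {q f N : ℕ} (hq : 3 ≤ q) (hf : q ^ 9 ≤ f) (h1 : f ^ 5 < N) (h2 : N * (q - 1) ^ 6 ≤ q ^ 46) : False := by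
  have h3 : q ≤ (q - 1) ^ 6 := by
    obtain ⟨n, rfl⟩ : ∃ n, q = n + 2 := ⟨q - 2, by omega⟩
    have h4 : n + 2 - 1 = n + 1 := by omega
    rw [h4]
    calc n + 2 ≤ 2 * (n + 1) := by omega
      _ ≤ (n + 1) * (n + 1) := Nat.mul_le_mul_right _ (by omega)
      _ = (n + 1) ^ 2 := by ring
      _ ≤ (n + 1) ^ 6 := Nat.pow_le_pow_right (by omega) (by norm_num)
  have h4 : (q ^ 9) ^ 5 ≤ f ^ 5 := Nat.pow_le_pow_left hf 5
  have h5 : 0 < (q - 1) ^ 6 := pow_pos (by omega) 6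
  have h6 : q ^ 46 < q ^ 46 := by
    calc q ^ 46 = (q ^ 9) ^ 5 * q := by ring
      _ ≤ f ^ 5 * (q - 1) ^ 6 := Nat.mul_le_mul h4 h3
      _ < N * (q - 1) ^ 6 := Nat.mul_lt_mul_of_pos_right h1 h5
      _ ≤ q ^ 46 := h2
  exact lt_irrefl _ h6

section fix

variable {Y : Type*} [Group Y] [Finite Y] {A : Subgroup Y}

theorem Fix_bound (hA : H255.IFK.Fix A) {t : Y} (ht : t ∈ A) (h2 : orderOf t = 2) :
    ∃ f : ℕ, (∀ B : Subgroup Y, B ≤ Subgroup.centralizer ({t} : Set Y) → A.relIndex B ≤ f) ∧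
      f ^ 5 < (Subgroup.centralizer ({t} : Set Y)).index := by
  obtain ⟨f, h3, h4⟩ := hA t ht h2
  refine ⟨f, h3, lt_of_le_of_lt ?_ h4⟩
  have h5 : 0 < {u : Y | u ∈ A ∧ IsConj t u}.ncard := (Set.ncard_pos (Set.toFinite _)).2 ⟨t, ht, IsConj.refl t⟩
  exact Nat.le_mul_of_pos_right _ h5

end fix

variable {I W Y : Type*} [Fintype I] [DecidableEq I] [Group W] [Group Y] {M : CoxeterMatrix I}
  {cs : CoxeterSystem M W} {A : I → I → ℤ} {h : IsCartan M A} {p : ℕ} {T : Subgroup Y} {n : I → Y}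
  {X : (I → ℤ) → Subgroup Y}

/-- the parity of `⟨·, β^∨⟩` -/
noncomputable def psi [Finite W] {β : I → ℤ} (hβ : IsRoot cs h β) : (I → ℤ) →+ ZMod 2 :=
  (Int.castAddHom (ZMod 2)).comp (ell cs h hβ)

theorem psi_apply [Finite W] {β : I → ℤ} (hβ : IsRoot cs h β) (x : I → ℤ) : psi hβ x = ((cpr cs h x β : ℤ) : ZMod 2) :=
  rfl

/-- `z` is the involution of `⟨X β, X (-β)⟩` -/
structure Inv2 [Finite W] (cs : CoxeterSystem M W) (h : IsCartan M A) (T : Subgroup Y) (X : (I → ℤ) → Subgroup Y)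
    (β : I → ℤ) (z : Y) : Prop where
  root : IsRoot cs h β
  sgn : SgnEl cs h T X (psi root) z
  opp : ∀ u ∈ X β, ∀ v ∈ X (-β), u ≠ 1 → v ≠ 1 → z ∈ Subgroup.closure {u, v}

theorem Inv2.conj [Finite W] (R : RGD cs h p T n X) {β : I → ℤ} {z : Y} (H : Inv2 cs h T X β z) {w : W} {k : Y}
    (hk : Rp cs R.nsys w k) : Inv2 cs h T X (rep cs h w β) (k * z * k⁻¹) := by
  refine ⟨H.root.act w, ?_, ?_⟩
  · have h1 := H.sgn.conj R hk
    have h2 : (psi H.root).comp (rep cs h w⁻¹).toAddMonoidHom = psi (H.root.act w) := by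
      refine AddMonoidHom.ext fun x => ?_
      show ((cpr cs h (rep cs h w⁻¹ x) β : ℤ) : ZMod 2) = ((cpr cs h x (rep cs h w β) : ℤ) : ZMod 2)
      have h3 := cpr_rep cs h w (rep cs h w⁻¹ x) H.root
      rw [rep_apply_inv] at h3
      rw [h3]
    rw [h2] at h1
    exact h1
  · intro u hu v hv hu1 hv1
    have h1 := R.conj_mem' hk (H.root.act w) hu
    rw [rep_inv_apply] at h1
    have h2 := R.conj_mem' hk (H.root.act w).neg hv
    rw [map_neg, rep_inv_apply] at h2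
    have h3 := H.opp _ h1 _ h2 (fun e => hu1 (by
      have : u = k * (k⁻¹ * u * k) * k⁻¹ := by group
      rw [this, e]; group)) (fun e => hv1 (by
      have : v = k * (k⁻¹ * v * k) * k⁻¹ := by group
      rw [this, e]; group))
    have h4 : k * z * k⁻¹ ∈ (Subgroup.closure {k⁻¹ * u * k, k⁻¹ * v * k}).map (MulAut.conj k).toMonoidHom :=
      ⟨z, h3, rfl⟩
    rw [MonoidHom.map_closure] at h4
    refine (Subgroup.closure_mono ?_) h4
    rintro _ ⟨x, rfl | rfl, rfl⟩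
    · left
      show k * (k⁻¹ * u * k) * k⁻¹ = u
      group
    · right
      show k * (k⁻¹ * v * k) * k⁻¹ = v
      group

theorem exists_inv2 [Finite W] (R : RGD cs h p T n X) (hsim : ∀ i, ∃ z, Inv2 cs h T X (sr i) z) {β : I → ℤ}
    (hβ : IsRoot cs h β) : ∃ z, Inv2 cs h T X β z := by
  obtain ⟨w, i, rfl⟩ := hβ
  obtain ⟨k, hk⟩ := exists_rp cs R.nsys w
  obtain ⟨z, hz⟩ := hsim i
  exact ⟨_, hz.conj R hk⟩

section

variable [Finite W] [Finite Y] (R : RGD cs h p T n X) (hs : SL cs h)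
  (hab : ∀ α, IsRoot cs h α → ∀ u ∈ X α, ∀ v ∈ X α, u * v = v * u) {q : ℕ}
  (hcard : ∀ α, IsRoot cs h α → Nat.card (X α) = q) (hq : 3 ≤ q) (hodd : Odd q)

include R hs hab hcard hq hodd

theorem X_ne_bot' {α : I → ℤ} (hα : IsRoot cs h α) : X α ≠ ⊥ := X_ne_bot R hα

/-- **the step for the involution `u`** -/
theorem ustep {B : Subgroup Y} (hB : H255.IFK.Fix B) {φ : (I → ℤ) →+ ZMod 2} {t : Y} (ht : SgnEl cs h T X φ t) (htB : t ∈ B)
    (ht2 : orderOf t = 2) (hidx : (Subgroup.centralizer ({t} : Set Y)).index * (q - 1) ^ 6 ≤ q ^ 38)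
    (hS : ∀ α, IsRoot cs h α → φ α = 0 → ∃ S : Finset (I → ℤ),
      (∀ β, β ∈ S ↔ IsRoot cs h β ∧ cpr cs h β α = 1 ∧ φ β = 0) ∧ S.card = 12)
    {γ : I → ℤ} (hγ : ∃ α β, IsRoot cs h α ∧ IsRoot cs h β ∧ φ α = 0 ∧ φ β = 0 ∧ cpr cs h α β = -1 ∧ α + β = γ) :
    X γ ≤ B := by
  have key : ∀ α, IsRoot cs h α → φ α = 0 → B.relIndex (X α) * B.relIndex (X α) < q := by
    intro α hα hφα
    obtain ⟨S, hSm, hSc⟩ := hS α hα hφα
    have H : H203.IF.Heis (X α) X S (fun β => α - β) := heis_root R hs hab hα S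
      (fun β hβ => ⟨((hSm β).1 hβ).1, ((hSm β).1 hβ).2.1⟩) (fun β hβ => by
        obtain ⟨h1, h2, h3⟩ := (hSm β).1 hβ
        rw [hSm]
        refine ⟨isRoot_sub hα h1 (by rw [hs α β hα h1, h2]), ?_, by rw [map_sub, hφα, h3, sub_zero]⟩
        have e : α - β = α + (-1 : ℤ) • β := by rw [neg_one_smul, sub_eq_add_neg]
        rw [e, cpr_add cs h _ _ hα, cpr_smul cs h _ _ hα, cpr_self cs h hα, h2]
        norm_num)
    have hQc : H203.IF.QQ (X α) X S ≤ Subgroup.centralizer {t} :=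
      H203.IF.Heis.QQ_le (fun u hu => Subgroup.mem_centralizer_singleton_iff.2 (ht.fix α hα hφα u hu).symm)
        fun β hβ u hu => Subgroup.mem_centralizer_singleton_iff.2
          (ht.fix β ((hSm β).1 hβ).1 ((hSm β).1 hβ).2.2 u hu).symm
    have hQ : Nat.card (H203.IF.QQ (X α) X S) = q ^ 13 := by
      rw [card_QQ' H (X_ne_bot R hα) (hcard α hα) (fun β hβ => hcard β ((hSm β).1 hβ).1), hSc]
    obtain ⟨f, hf1, hf2⟩ := Fix_bound hB htB ht2
    have hrel : B.relIndex (X α) * Nat.card (B ⊓ X α : Subgroup Y) = q := by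
      rw [← hcard α hα]
      exact (card_eq_relIndex_mul B (X α)).symm
    by_cases hle : X α ≤ B
    · rw [Subgroup.relIndex_eq_one.2 hle]
      omega
    · have h1 := H.rel B hle
      have h2 := hf1 _ hQc
      rw [hQ, hcard α hα] at h1
      set r := B.relIndex (X α) with hr
      set x := Nat.card (B ⊓ X α : Subgroup Y) with hx
      set m := B.relIndex (H203.IF.QQ (X α) X S) with hm
      have hx0 : 0 < x := Nat.card_pos
      -- `q ^ 6 * r ≤ m`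
      have h3 : (q ^ 6 * r) ^ 2 ≤ m ^ 2 := by
        have h4 : x ^ 2 * (q ^ 6 * r) ^ 2 ≤ x ^ 2 * m ^ 2 := by
          calc x ^ 2 * (q ^ 6 * r) ^ 2 = q ^ 12 * (r * x) ^ 2 := by ring
            _ = q ^ 12 * q ^ 2 := by rw [hrel]
            _ = q ^ 13 * q := by ring
            _ ≤ m ^ 2 * x ^ 2 := h1
            _ = _ := by ring
        exact Nat.le_of_mul_le_mul_left h4 (pow_pos hx0 2)
      have h4 : q ^ 6 * r ≤ m := (Nat.pow_le_pow_iff_left two_ne_zero).1 h3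
      have h5 : (q ^ 6 * r) ^ 5 ≤ f ^ 5 := Nat.pow_le_pow_left (h4.trans h2) 5
      have h6 : 0 < (q - 1) ^ 6 := pow_pos (by omega) 6
      refine num_u hq hodd ⟨x, hrel.symm⟩ ?_
      have h7 : q ^ 30 * (r ^ 5 * (q - 1) ^ 6) < q ^ 30 * q ^ 8 := by
        calc q ^ 30 * (r ^ 5 * (q - 1) ^ 6) = (q ^ 6 * r) ^ 5 * (q - 1) ^ 6 := by ring
          _ ≤ f ^ 5 * (q - 1) ^ 6 := Nat.mul_le_mul_right _ h5
          _ < (Subgroup.centralizer ({t} : Set Y)).index * (q - 1) ^ 6 := Nat.mul_lt_mul_of_pos_right hf2 h6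
          _ ≤ q ^ 38 := hidx
          _ = _ := by ring
      exact lt_of_mul_lt_mul_left h7 (Nat.zero_le _)
  obtain ⟨α, β, hα, hβ, hφα, hφβ, hc, rfl⟩ := hγ
  have hA2 := hs.a2 hα hβ hc
  refine le_of_pairing (X := X α) (X' := X β) B (fun b hb y hy => A2.comm_mem R hA2 hb hy) ?_ ?_
    (fun r hr s hs => A2.comm_self R hA2 hr hs) (fun b hb hb1 r hr => A2.comm_surj R hA2 hb hb1 hr) ?_
  · intro r hr b hb
    exact A2.comm_left R hA2 hr hb
  · intro r hr y hy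
    exact A2.comm_right R hA2 hr hy
  · rw [hcard α hα]
    have h1 := key α hα hφα
    have h2 := key β hβ hφβ
    by_contra hcon
    push Not at hcon
    rcases Nat.le_total (B.relIndex (X α)) (B.relIndex (X β)) with h3 | h3
    · exact absurd (hcon.trans (Nat.mul_le_mul_right _ h3)) (by omega)
    · exact absurd (hcon.trans (Nat.mul_le_mul_left _ h3)) (by omega)

/-- the roots orthogonal to the members of `C` -/
def EC (cs : CoxeterSystem M W) (h : IsCartan M A) (C : List (I → ℤ)) : Set (I → ℤ) :=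
  {x | IsRoot cs h x ∧ ∀ c ∈ C, cpr cs h x c = 0}

omit R hs hab hcard hq hodd in
theorem EC_mono (α : I → ℤ) (C : List (I → ℤ)) : EC cs h (α :: C) ⊆ EC cs h C :=
  fun _ hx => ⟨hx.1, fun c hc => hx.2 c (List.mem_cons_of_mem _ hc)⟩

/-- **the induction step** -/
theorem phi_step {C : List (I → ℤ)} (hC : ∀ c ∈ C, IsRoot cs h c) {α : I → ℤ} (hα : α ∈ EC cs h C) {d : ℕ}
    (S₁ S₂ : Finset (I → ℤ)) (hS₁ : ∀ β, β ∈ S₁ ↔ β ∈ EC cs h C ∧ cpr cs h β α = 1)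
    (hS₂ : ∀ β, β ∈ S₂ ↔ β ∈ EC cs h C ∧ cpr cs h β (-α) = 1) (hc₁ : S₁.card = 2 * d) (hc₂ : S₂.card = 2 * d)
    {Zs : Set Y} (hZ2 : ∀ z ∈ Zs, z * z = 1) (hZc : ∀ g ∈ RGD.Sup X (EC cs h C), ∀ z ∈ Zs, g * z * g⁻¹ ∈ Zs)
    {z : Y} (hz : Inv2 cs h T X α z) (hzZ : z ∈ Zs) {c : ℕ}
    (hphi : H203.IF.Phi (RGD.Sup X (EC cs h (α :: C))) Zs c) :
    H203.IF.Phi (RGD.Sup X (EC cs h C)) Zs (q ^ (d + 1) * c) := by
  have hαr := hα.1
  have hmk : ∀ α', IsRoot cs h α' → α' ∈ EC cs h C → (∀ x, IsRoot cs h x → cpr cs h x α = 0 → cpr cs h x α' = 0) →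
      ∀ S : Finset (I → ℤ), (∀ β, β ∈ S ↔ β ∈ EC cs h C ∧ cpr cs h β α' = 1) → S.card = 2 * d →
      H203.IF.Heis (X α') X S (fun β => α' - β) ∧ H203.IF.QQ (X α') X S ≤ RGD.Sup X (EC cs h C) ∧
      Nat.card (H203.IF.QQ (X α') X S) = q ^ (2 * d + 1) ∧
      (∀ l ∈ RGD.Sup X (EC cs h (α :: C)), ∀ u ∈ H203.IF.QQ (X α') X S, l * u * l⁻¹ ∈ H203.IF.QQ (X α') X S) := by
    intro α' hα'r hα' hperp S hS hSc
    have H : H203.IF.Heis (X α') X S (fun β => α' - β) := heis_root R hs hab hα'r S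
      (fun β hβ => ⟨((hS β).1 hβ).1.1, ((hS β).1 hβ).2⟩) (fun β hβ => by
        obtain ⟨⟨h1, h2⟩, h3⟩ := (hS β).1 hβ
        rw [hS]
        have e : α' - β = α' + (-1 : ℤ) • β := by rw [neg_one_smul, sub_eq_add_neg]
        refine ⟨⟨isRoot_sub hα'r h1 (by rw [hs α' β hα'r h1, h3]), fun c hc => ?_⟩, ?_⟩
        · rw [e, cpr_add cs h _ _ (hC c hc), cpr_smul cs h _ _ (hC c hc), hα'.2 c hc, h2 c hc]
          norm_num
        · rw [e, cpr_add cs h _ _ hα'r, cpr_smul cs h _ _ hα'r, cpr_self cs h hα'r, h3]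
          norm_num)
    refine ⟨H, H203.IF.Heis.QQ_le (RGD.le_Sup hα') fun β hβ => RGD.le_Sup ((hS β).1 hβ).1, ?_, ?_⟩
    · rw [card_QQ' H (X_ne_bot R hα'r) (hcard α' hα'r) (fun β hβ => hcard β ((hS β).1 hβ).1.1), hSc]
    · intro l hl u hu
      refine norm_QQ R hs hab hα'r S (fun β hβ => ⟨((hS β).1 hβ).1.1, ((hS β).1 hβ).2⟩) ?_ ?_ hl hu
      · intro γ hγ
        exact ⟨hγ.1, hperp γ hγ.1 (hγ.2 α List.mem_cons_self)⟩
      · intro γ hγ β hβ hγβ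
        obtain ⟨⟨h1, h2⟩, h3⟩ := (hS β).1 hβ
        rw [hS]
        refine ⟨⟨hγβ, fun c hc => ?_⟩, ?_⟩
        · rw [cpr_add cs h _ _ (hC c hc), hγ.2 c (List.mem_cons_of_mem _ hc), h2 c hc, add_zero]
        · rw [cpr_add cs h _ _ hα'r, hperp γ hγ.1 (hγ.2 α List.mem_cons_self), h3, zero_add]
  have hαn : -α ∈ EC cs h C := ⟨hαr.neg, fun c hc => by
    rw [cpr_neg_left _ (hC c hc), hα.2 c hc, neg_zero]⟩
  obtain ⟨H₁, hL₁, hk₁, hn₁⟩ := hmk α hαr hα (fun x _ hx => hx) S₁ hS₁ hc₁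
  obtain ⟨H₂, hL₂, hk₂, hn₂⟩ := hmk (-α) hαr.neg hαn (fun x _ hx => by
    rw [cpr_neg_right cs h x hαr, hx, neg_zero]) S₂ hS₂ hc₂
  have ho : Odd (q ^ (2 * d + 1)) := hodd.pow
  refine H203.IF.Phi.step H₁ H₂ hphi (RGD.Sup_mono (EC_mono α C)) hL₁ hL₂ (by rw [hk₁]; exact ho)
    (by rw [hk₂]; exact ho) hn₁ hn₂ ?_ ?_ (X_ne_bot R hαr) (X_ne_bot R hαr.neg) hZ2 hZc
    (fun u hu v hv hu1 hv1 => ⟨z, hzZ, hz.opp u hu v hv hu1 hv1⟩)
  · rw [hk₁, hcard α hαr]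
    exact le_of_eq (by ring)
  · rw [hk₂, hcard _ hαr.neg]
    exact le_of_eq (by ring)

/-- the start of the induction -/
theorem phi_start {C : List (I → ℤ)} (hC : ∀ c ∈ C, IsRoot cs h c) {α : I → ℤ} (hα : α ∈ EC cs h C)
    {Zs : Set Y} {z : Y} (hz : Inv2 cs h T X α z) (hzZ : z ∈ Zs) :
    H203.IF.Phi (RGD.Sup X (EC cs h C)) Zs q := by
  have hαn : -α ∈ EC cs h C := ⟨hα.1.neg, fun c hc => by
    rw [cpr_neg_left _ (hC c hc), hα.2 c hc, neg_zero]⟩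
  exact H203.IF.Phi.start (RGD.le_Sup hα) (RGD.le_Sup hαn) (hcard α hα.1).ge (hcard _ hα.1.neg).ge
    (fun u hu v hv hu1 hv1 => ⟨z, hzZ, hz.opp u hu v hv hu1 hv1⟩)

end

end Cfsg.Agent.H190.IF
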