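import Mathlib

/-!
# S5719 (involution fixity): the Heisenberg lemma and the pairing lemma (helper190)

* `card_le_of_pairing` : `c : B →* (P →* ℂˣ)` trivial on `B × P'` : `|B| ≤ |ker c| |P : P'|`;
* `Heis Q R` : `[Q, Q] ≤ R ≤ Z(Q)`, and `y ↦ [x, y]` is onto `R` for `x ∈ Q` outside of `R`;
* `Heis.index_le` : `B ≤ Q`, `R` not in `B` : `|R : B ∩ R|² |Q : R| ≤ |Q : B|²`;
* `Heis.cent` : `C_Q(t)` for `t² = 1` centralising `R`, `Q` of odd order; `Heis.conj`;
* `le_of_pairing` : `X, X' , R` with `[X, X'] ≤ R` central, onto: `|X : A ∩ X| |X' : A ∩ X'| < |X|` : `R ≤ A`.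
-/

set_option autoImplicit false

namespace Cfsg.Agent.H190.IF

open Subgroup
open scoped commutatorElement Pointwise

/-- the number of linear characters trivial on a subgroup -/
theorem card_char_le {P : Type*} [Group P] [Finite P] (P' : Subgroup P) :
    Nat.card {χ : P →* ℂˣ // ∀ x ∈ P', χ x = 1} ≤ P'.index := by
  classical
  let D : Subgroup P := P' ⊔ commutator P
  have hDn : D.Normal := by
    constructor
    intro n hn g
    have h1 : g * n * g⁻¹ = ⁅g, n⁆ * n := by rw [commutatorElement_def]; group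
    rw [h1]
    refine mul_mem ?_ hn
    exact (le_sup_right : commutator P ≤ D) (by
      rw [commutator_def]
      exact commutator_mem_commutator (mem_top g) (mem_top n))
  have hcomm : ∀ a b : P ⧸ D, a * b = b * a := by
    intro a b
    induction a using QuotientGroup.induction_on with
    | H a =>
      induction b using QuotientGroup.induction_on with
      | H b =>
        rw [← QuotientGroup.mk_mul, ← QuotientGroup.mk_mul, QuotientGroup.eq]
        have h1 : (a * b)⁻¹ * (b * a) = ⁅b⁻¹, a⁻¹⁆ := by rw [commutatorElement_def]; group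
        rw [h1]
        exact (le_sup_right : commutator P ≤ D) (by
          rw [commutator_def]
          exact commutator_mem_commutator (mem_top _) (mem_top _))
  let cg : CommGroup (P ⧸ D) := { (inferInstance : Group (P ⧸ D)) with mul_comm := hcomm }
  have h1 : Nat.card ((P ⧸ D) →* ℂˣ) = Nat.card (P ⧸ D) :=
    @CommGroup.card_monoidHom_of_hasEnoughRootsOfUnity (P ⧸ D) ℂ cg _ _ _
  have hfin : Finite ((P ⧸ D) →* ℂˣ) := by
    apply Nat.finite_of_card_ne_zero
    rw [h1]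
    exact Nat.card_pos.ne'
  have h2 : Nat.card {χ : P →* ℂˣ // ∀ x ∈ P', χ x = 1} ≤ Nat.card ((P ⧸ D) →* ℂˣ) := by
    have key : ∀ χ : {χ : P →* ℂˣ // ∀ x ∈ P', χ x = 1}, D ≤ χ.1.ker := by
      intro χ
      refine sup_le (fun x hx => χ.2 x hx) ?_
      rw [commutator_def, commutator_le]
      intro a _ b _
      rw [MonoidHom.mem_ker, map_commutatorElement, commutatorElement_eq_one_iff_mul_comm]
      exact mul_comm _ _
    refine Nat.card_le_card_of_injective (fun χ => QuotientGroup.lift D χ.1 (fun x hx => key χ hx)) ?_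
    intro χ χ' h
    apply Subtype.ext
    ext x
    have h3 := DFunLike.congr_fun h (x : P ⧸ D)
    have h4 : χ.1 x = χ'.1 x := h3
    rw [h4]
  refine h2.trans ?_
  rw [h1]
  have h3 : Nat.card (P ⧸ D) = D.index := rfl
  rw [h3]
  exact Nat.le_of_dvd (Nat.pos_of_ne_zero P'.index_ne_zero_of_finite) (Subgroup.index_dvd_of_le le_sup_left)

/-- the pairing lemma -/
theorem card_le_of_pairing {B P : Type*} [Group B] [Finite B] [Group P] [Finite P] (c : B →* (P →* ℂˣ))
    (P' : Subgroup P) (h : ∀ b, ∀ x ∈ P', c b x = 1) : Nat.card B ≤ Nat.card c.ker * P'.index := by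
  have h1 : Nat.card B = Nat.card c.ker * Nat.card c.range := by
    rw [← c.ker.index_mul_card, Subgroup.index_ker, mul_comm]
  rw [h1]
  refine Nat.mul_le_mul_left _ ?_
  have hfin : Finite {χ : P →* ℂˣ // ∀ x ∈ P', χ x = 1} := by
    have h2 := card_char_le (⊥ : Subgroup P)
    have hf : Finite {χ : P →* ℂˣ // ∀ x ∈ (⊥ : Subgroup P), χ x = 1} := by
      have : Finite (P → ℂˣ) ∨ True := Or.inr trivial
      -- `P →* ℂˣ` is finite: characters have values in the roots of unity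
      have hP : Finite (P →* ℂˣ) := by
        let D : Subgroup P := commutator P
        let cg : CommGroup (Abelianization P) := inferInstance
        have h3 : Nat.card (Abelianization P →* ℂˣ) = Nat.card (Abelianization P) :=
          CommGroup.card_monoidHom_of_hasEnoughRootsOfUnity (Abelianization P) ℂ
        have h4 : Finite (Abelianization P →* ℂˣ) := by
          apply Nat.finite_of_card_ne_zero
          rw [h3]
          exact Nat.card_pos.ne'
        exact Finite.of_equiv _ Abelianization.lift.symm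
      exact Subtype.finite
    exact Finite.of_injective (fun χ : {χ : P →* ℂˣ // ∀ x ∈ P', χ x = 1} =>
      (⟨χ.1, fun x hx => by rw [mem_bot.1 hx, map_one]⟩ : {χ : P →* ℂˣ // ∀ x ∈ (⊥ : Subgroup P), χ x = 1}))
      (fun a b hab => Subtype.ext (congrArg (fun z => z.1) hab))
  refine le_trans ?_ (card_char_le P')
  refine Nat.card_le_card_of_injective
    (fun χ : c.range => (⟨χ.1, by
      obtain ⟨b, hb⟩ := χ.2
      rw [← hb]
      exact h b⟩ : {χ : P →* ℂˣ // ∀ x ∈ P', χ x = 1})) ?_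
  intro a b hab
  exact Subtype.ext (congrArg (fun z => z.1) hab)

/-- `[Q, Q] ≤ R ≤ Z(Q)`, and the commutator form is onto `R` -/
structure Heis {Y : Type*} [Group Y] (Q R : Subgroup Y) : Prop where
  le : R ≤ Q
  cen : ∀ r ∈ R, ∀ x ∈ Q, r * x = x * r
  der : ∀ x ∈ Q, ∀ y ∈ Q, ⁅x, y⁆ ∈ R
  sur : ∀ x ∈ Q, x ∉ R → ∀ r ∈ R, ∃ y ∈ Q, ⁅x, y⁆ = r


theorem exists_char {G : Type*} [Group G] [Finite G] (hc : ∀ a b : G, a * b = b * a) (N : Subgroup G) {r : G}
    (hr : r ∉ N) : ∃ χ : G →* ℂˣ, (∀ x ∈ N, χ x = 1) ∧ χ r ≠ 1 := by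
  classical
  let cg : CommGroup G := { (inferInstance : Group G) with mul_comm := hc }
  have hn : N.Normal := ⟨fun n hn g => by rw [hc g n, mul_assoc, mul_inv_cancel, mul_one]; exact hn⟩
  have hcomm : ∀ a b : G ⧸ N, a * b = b * a := by
    intro a b
    induction a using QuotientGroup.induction_on with
    | H a =>
      induction b using QuotientGroup.induction_on with
      | H b => rw [← QuotientGroup.mk_mul, ← QuotientGroup.mk_mul, hc]
  let cq : CommGroup (G ⧸ N) := { (inferInstance : Group (G ⧸ N)) with mul_comm := hcomm }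
  have h1 : (QuotientGroup.mk r : G ⧸ N) ≠ 1 := by
    rw [Ne, QuotientGroup.eq_one_iff]
    exact hr
  obtain ⟨φ, hφ⟩ := @CommGroup.exists_apply_ne_one_of_hasEnoughRootsOfUnity (G ⧸ N) ℂ cq _ _ _ _ h1
  refine ⟨φ.comp (QuotientGroup.mk' N), fun x hx => ?_, hφ⟩
  have h2 : QuotientGroup.mk' N x = 1 := (QuotientGroup.eq_one_iff x).2 hx
  rw [MonoidHom.comp_apply, h2, map_one]

section

variable {Y : Type*} [Group Y]

/-- **(PAIR)** -/
theorem pair_le [Finite Y] (B P R N B2 K : Subgroup Y) (hd : ∀ b ∈ B, ∀ y ∈ P, ⁅b, y⁆ ∈ R)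
    (hB : ∀ r ∈ R, ∀ b ∈ B, r * b = b * r) (hP : ∀ r ∈ R, ∀ y ∈ P, r * y = y * r)
    (hR : ∀ r ∈ R, ∀ s ∈ R, r * s = s * r) (hRN : ¬ R ≤ N) (hN : ∀ b ∈ B, ∀ y ∈ B2, y ∈ P → ⁅b, y⁆ ∈ N)
    (hs : ∀ b ∈ B, b ∉ K → ∀ r ∈ R, ∃ y ∈ P, ⁅b, y⁆ = r) :
    Nat.card B ≤ Nat.card (B ⊓ K : Subgroup Y) * B2.relIndex P := by
  classical
  obtain ⟨r, hr, hrN⟩ := SetLike.not_le_iff_exists.1 hRN
  obtain ⟨χ, hχ, hχr⟩ := exists_char (G := R) (fun a b => Subtype.ext (hR a a.2 b b.2)) (N.subgroupOf R)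
    (r := ⟨r, hr⟩) (fun h => hrN (mem_subgroupOf.1 h))
  have key1 : ∀ b ∈ B, ∀ x ∈ P, ∀ y ∈ P, ⁅b, x * y⁆ = ⁅b, x⁆ * ⁅b, y⁆ := by
    intro b hb x hx y hy
    have h1 : ⁅b, x * y⁆ = ⁅b, x⁆ * (x * ⁅b, y⁆ * x⁻¹) := by
      rw [commutatorElement_def, commutatorElement_def, commutatorElement_def]; group
    rw [h1, ← hP _ (hd b hb y hy) x hx, mul_inv_cancel_right]
  have key2 : ∀ b ∈ B, ∀ b' ∈ B, ∀ x ∈ P, ⁅b * b', x⁆ = ⁅b, x⁆ * ⁅b', x⁆ := by
    intro b hb b' hb' x hx
    have h1 : ⁅b * b', x⁆ = (b * ⁅b', x⁆ * b⁻¹) * ⁅b, x⁆ := by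
      rw [commutatorElement_def, commutatorElement_def, commutatorElement_def]; group
    rw [h1, ← hB _ (hd b' hb' x hx) b hb, mul_inv_cancel_right]
    exact hR _ (hd b' hb' x hx) _ (hd b hb x hx)
  let c : B →* (P →* ℂˣ) :=
    { toFun := fun b =>
        { toFun := fun x => χ ⟨⁅(b : Y), (x : Y)⁆, hd b b.2 x x.2⟩
          map_one' := by
            have : (⟨⁅(b : Y), ((1 : P) : Y)⁆, hd b b.2 _ (1 : P).2⟩ : R) = 1 := by
              apply Subtype.ext
              show ⁅(b : Y), (1 : Y)⁆ = 1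
              rw [commutatorElement_one_right]
            rw [this, map_one]
          map_mul' := fun x y => by
            rw [← map_mul]
            congr 1
            apply Subtype.ext
            exact key1 b b.2 x x.2 y y.2 }
      map_one' := by
        ext x
        have : (⟨⁅((1 : B) : Y), (x : Y)⁆, hd _ (1 : B).2 x x.2⟩ : R) = 1 := by
          apply Subtype.ext
          show ⁅(1 : Y), (x : Y)⁆ = 1
          rw [commutatorElement_one_left]
        show ((χ ⟨⁅((1 : B) : Y), (x : Y)⁆, _⟩ : ℂˣ) : ℂ) = 1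
        rw [this, map_one, Units.val_one]
      map_mul' := fun b b' => by
        ext x
        show ((χ ⟨⁅((b * b' : B) : Y), (x : Y)⁆, _⟩ : ℂˣ) : ℂ) = ((χ ⟨⁅(b : Y), (x : Y)⁆, _⟩ * χ ⟨⁅(b' : Y), (x : Y)⁆, _⟩ : ℂˣ) : ℂ)
        rw [← map_mul]
        congr 2
        apply Subtype.ext
        exact key2 b b.2 b' b'.2 x x.2 }
  have hc : ∀ (b : B) (x : P), c b x = χ ⟨⁅(b : Y), (x : Y)⁆, hd b b.2 x x.2⟩ := fun _ _ => rfl
  have h1 := card_le_of_pairing c (B2.subgroupOf P) (by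
    intro b x hx
    rw [hc]
    exact hχ _ (mem_subgroupOf.2 (hN b b.2 x (mem_subgroupOf.1 hx) x.2)))
  refine h1.trans (Nat.mul_le_mul_right _ ?_)
  refine Nat.card_le_card_of_injective (fun b : c.ker => (⟨b.1.1, b.1.2, by
    by_contra hcon
    obtain ⟨y, hy, e⟩ := hs b.1.1 b.1.2 hcon r hr
    have h2 : c b.1 ⟨y, hy⟩ = 1 := by
      rw [(MonoidHom.mem_ker).1 b.2]
      rfl
    rw [hc] at h2
    apply hχr
    rw [← h2]
    congr 1
    exact Subtype.ext e.symm⟩ : (B ⊓ K : Subgroup Y))) ?_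
  intro a b hab
  exact Subtype.ext (Subtype.ext (congrArg (fun z => z.1) hab))

theorem card_eq_relIndex_mul (A B : Subgroup Y) : Nat.card B = A.relIndex B * Nat.card (A ⊓ B : Subgroup Y) := by
  rw [Subgroup.relIndex, ← Subgroup.index_mul_card (A.subgroupOf B)]
  congr 1
  rw [← Subgroup.inf_subgroupOf_right, Nat.card_congr (Subgroup.subgroupOfEquivOfLe (inf_le_right : A ⊓ B ≤ B)).toEquiv]

variable {Q R : Subgroup Y}

theorem Heis.mem_sup (H : Heis Q R) {B : Subgroup Y} (hB : B ≤ Q) {y : Y} (hy : y ∈ B ⊔ R) :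
    ∃ b ∈ B, ∃ r ∈ R, b * r = y := by
  have hn : B ≤ normalizer (R : Set Y) := by
    intro b hb
    rw [mem_normalizer_iff]
    intro r
    have h1 : ∀ r ∈ R, b * r * b⁻¹ = r := fun r hr => by rw [← H.cen r hr b (hB hb), mul_inv_cancel_right]
    constructor
    · intro hr
      rw [h1 r hr]
      exact hr
    · intro hr
      have h2 := h1 _ hr
      have h3 : b * r * b⁻¹ = r := by
        have h4 : b * (b * r * b⁻¹) = b * r := by
          calc b * (b * r * b⁻¹) = b * (b * r * b⁻¹) * b⁻¹ * b := by group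
            _ = b * r := by rw [h2]; group
        exact mul_left_cancel h4
      rwa [h3] at hr
  have h1 : ((B ⊔ R : Subgroup Y) : Set Y) = (B : Set Y) * (R : Set Y) :=
    Subgroup.coe_mul_of_left_le_normalizer_right _ _ hn
  have h2 : y ∈ ((B ⊔ R : Subgroup Y) : Set Y) := hy
  rw [h1] at h2
  exact Set.mem_mul.1 h2

/-- **the Heisenberg lemma** -/
theorem Heis.index_le [Finite Y] (H : Heis Q R) (A : Subgroup Y) (hA : ¬ R ≤ A) :
    A.relIndex R ^ 2 * R.relIndex Q ≤ A.relIndex Q ^ 2 := by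
  have hRc : ∀ r ∈ R, ∀ s ∈ R, r * s = s * r := fun r hr s hs => H.cen r hr s (H.le hs)
  have hBQ : A ⊓ Q ≤ Q := inf_le_right
  have h1 := pair_le (A ⊓ Q) Q R A (A ⊓ Q ⊔ R) R (fun b hb y hy => H.der b (hBQ hb) y hy)
    (fun r hr b hb => H.cen r hr b (hBQ hb)) H.cen hRc hA (by
      intro b hb y hy _
      obtain ⟨b', hb', r, hr, rfl⟩ := H.mem_sup hBQ hy
      have h2 : ⁅b, b' * r⁆ = ⁅b, b'⁆ * (b' * ⁅b, r⁆ * b'⁻¹) := by
        rw [commutatorElement_def, commutatorElement_def, commutatorElement_def]; group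
      have h3 : ⁅b, r⁆ = 1 := commutatorElement_eq_one_iff_mul_comm.2 (H.cen r hr b (hBQ hb)).symm
      rw [h2, h3, mul_one, mul_inv_cancel, mul_one, commutatorElement_def]
      exact mul_mem (mul_mem (mul_mem hb.1 hb'.1) (inv_mem hb.1)) (inv_mem hb'.1))
    (fun b hb hbR r hr => H.sur b (hBQ hb) hbR r hr)
  -- the order of `(A ⊓ Q) R`
  have e1 : Nat.card Q = A.relIndex Q * Nat.card (A ⊓ Q : Subgroup Y) := card_eq_relIndex_mul A Q
  have e2 : Nat.card R = A.relIndex R * Nat.card (A ⊓ R : Subgroup Y) := card_eq_relIndex_mul A R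
  have e3 : Nat.card Q = R.relIndex Q * Nat.card R := by
    rw [card_eq_relIndex_mul R Q, inf_eq_left.2 H.le]
  have hinf : A ⊓ Q ⊓ R = A ⊓ R := by
    rw [inf_assoc, inf_eq_right.2 H.le]
  rw [hinf] at h1
  have e4 : Nat.card (A ⊓ Q ⊔ R : Subgroup Y) * Nat.card (A ⊓ R : Subgroup Y) =
      Nat.card (A ⊓ Q : Subgroup Y) * Nat.card R := by
    have hcomm : ∀ (m : (A ⊓ Q : Subgroup Y)) (n : R), Commute ((A ⊓ Q).subtype m) (R.subtype n) := fun m n =>
      (H.cen n n.2 m (hBQ m.2)).symm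
    let φ := MonoidHom.noncommCoprod (A ⊓ Q).subtype R.subtype hcomm
    have hr : φ.range = A ⊓ Q ⊔ R := by
      rw [MonoidHom.noncommCoprod_range, Subgroup.range_subtype, Subgroup.range_subtype]
    have hφ : ∀ x, φ x = (x.1 : Y) * x.2 := fun _ => rfl
    have hk : Nat.card φ.ker = Nat.card (A ⊓ R : Subgroup Y) := by
      refine Nat.card_congr
        { toFun := fun x => ⟨x.1.2, ?_, x.1.2.2⟩
          invFun := fun r => ⟨(⟨(r : Y)⁻¹, ?_⟩, ⟨r, r.2.2⟩), ?_⟩
          left_inv := ?_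
          right_inv := fun r => rfl }
      · have h2 : (x.1.1 : Y) * x.1.2 = 1 := (MonoidHom.mem_ker).1 x.2
        have h3 : (x.1.2 : Y) = (x.1.1 : Y)⁻¹ := (inv_eq_of_mul_eq_one_right h2).symm
        rw [h3]
        exact A.inv_mem x.1.1.2.1
      · exact inv_mem ⟨r.2.1, H.le r.2.2⟩
      · rw [MonoidHom.mem_ker, hφ]
        exact inv_mul_cancel _
      · intro x
        have h2 : (x.1.1 : Y) * x.1.2 = 1 := (MonoidHom.mem_ker).1 x.2
        have h3 : ((x.1.2 : Y))⁻¹ = (x.1.1 : Y) := inv_eq_of_mul_eq_one_left h2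
        apply Subtype.ext
        exact Prod.ext (Subtype.ext h3) rfl
    have h2 := φ.ker.index_mul_card
    rw [Subgroup.index_ker, hk, hr, Nat.card_prod] at h2
    exact h2
  have e5 : Nat.card Q = (A ⊓ Q ⊔ R).relIndex Q * Nat.card (A ⊓ Q ⊔ R : Subgroup Y) := by
    rw [card_eq_relIndex_mul (A ⊓ Q ⊔ R) Q, inf_eq_left.2 (sup_le hBQ H.le)]
  have hpA : 0 < Nat.card (A ⊓ R : Subgroup Y) := Nat.card_pos
  have hpQ : 0 < Nat.card (A ⊓ Q : Subgroup Y) := Nat.card_pos
  have hpR : 0 < Nat.card R := Nat.card_pos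
  have hp5 : 0 < Nat.card (A ⊓ Q ⊔ R : Subgroup Y) := Nat.card_pos
  generalize Nat.card (A ⊓ R : Subgroup Y) = x at *
  generalize Nat.card (A ⊓ Q : Subgroup Y) = y at *
  generalize Nat.card (A ⊓ Q ⊔ R : Subgroup Y) = z at *
  generalize (A ⊓ Q ⊔ R).relIndex Q = s at *
  generalize Nat.card R = R0 at *
  generalize A.relIndex R = r at *
  generalize A.relIndex Q = a at *
  generalize R.relIndex Q = ρ at *
  -- z = y r, s r = a
  have f1 : z = y * r := by
    apply Nat.eq_of_mul_eq_mul_right hpA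
    rw [e4, e2]; ring
  have f2 : a = s * r := by
    apply Nat.eq_of_mul_eq_mul_right hpQ
    rw [← e1, e5, f1]; ring
  -- ρ r x = a y
  have f3 : ρ * (r * x) = a * y := by rw [← e1, e3, e2]
  have f4 : x * (r ^ 2 * ρ) ≤ x * a ^ 2 := by
    calc x * (r ^ 2 * ρ) = r * (ρ * (r * x)) := by ring
      _ = r * a * y := by rw [f3]; ring
      _ ≤ r * a * (x * s) := Nat.mul_le_mul_left _ h1
      _ = x * (a * (s * r)) := by ring
      _ = x * a ^ 2 := by rw [← f2]; ring
  exact Nat.le_of_mul_le_mul_left f4 hpA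

/-- **the pairing lemma**: `r r' < |X|` implies `R ≤ A` -/
theorem le_of_pairing [Finite Y] {X X' R : Subgroup Y} (A : Subgroup Y) (hd : ∀ b ∈ X, ∀ y ∈ X', ⁅b, y⁆ ∈ R)
    (hX : ∀ r ∈ R, ∀ b ∈ X, r * b = b * r) (hX' : ∀ r ∈ R, ∀ y ∈ X', r * y = y * r)
    (hR : ∀ r ∈ R, ∀ s ∈ R, r * s = s * r)
    (hs : ∀ b ∈ X, b ≠ 1 → ∀ r ∈ R, ∃ y ∈ X', ⁅b, y⁆ = r)
    (hlt : A.relIndex X * A.relIndex X' < Nat.card X) : R ≤ A := by
  by_contra hcon
  have h1 := pair_le (A ⊓ X) X' R A A ⊥ (fun b hb y hy => hd b hb.2 y hy) (fun r hr b hb => hX r hr b hb.2) hX' hR hcon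
    (fun b hb y hy _ => by
      rw [commutatorElement_def]
      exact mul_mem (mul_mem (mul_mem hb.1 hy) (inv_mem hb.1)) (inv_mem hy))
    (fun b hb hb1 r hr => hs b hb.2 (fun h => hb1 (by rw [h]; exact one_mem _)) r hr)
  rw [inf_bot_eq, Subgroup.card_bot, one_mul] at h1
  rw [card_eq_relIndex_mul A X] at hlt
  exact absurd (Nat.mul_le_mul_left (A.relIndex X) h1) (not_le.2 hlt)

theorem Heis.conj (H : Heis Q R) (e : MulAut Y) : Heis (Q.map e.toMonoidHom) (R.map e.toMonoidHom) where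
  le := Subgroup.map_mono H.le
  cen := by
    rintro _ ⟨r, hr, rfl⟩ _ ⟨x, hx, rfl⟩
    have := congrArg e (H.cen r hr x hx)
    rw [map_mul, map_mul] at this
    exact this
  der := by
    rintro _ ⟨x, hx, rfl⟩ _ ⟨y, hy, rfl⟩
    exact ⟨⁅x, y⁆, H.der x hx y hy, map_commutatorElement _ _ _⟩
  sur := by
    rintro _ ⟨x, hx, rfl⟩ hxR _ ⟨r, hr, rfl⟩
    obtain ⟨y, hy, rfl⟩ := H.sur x hx (fun h => hxR ⟨x, h, rfl⟩) r hr
    exact ⟨_, ⟨y, hy, rfl⟩, (map_commutatorElement _ _ _).symm⟩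

/-- **passage to the centraliser of an involution centralising `R`** -/
theorem Heis.cent [Finite Y] (H : Heis Q R) (ho : Odd (Nat.card R)) {t : Y} (htt : t * t = 1)
    (htR : ∀ r ∈ R, t * r = r * t) (htQ : ∀ x ∈ Q, t * x * t⁻¹ ∈ Q) :
    Heis (Q ⊓ centralizer {t}) R where
  le := le_inf H.le fun r hr => mem_centralizer_singleton_iff.2 (htR r hr).symm
  cen r hr x hx := H.cen r hr x hx.1
  der x hx y hy := H.der x hx.1 y hy.1
  sur x hx hxR r hr := by
    -- a square root of `r`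
    obtain ⟨s, hs, hsr⟩ : ∃ s ∈ R, s * s = r := by
      obtain ⟨k, hk⟩ := ho
      have h1 : (⟨r, hr⟩ : R) ^ (2 * k + 1) = 1 := by rw [← hk]; exact pow_card_eq_one'
      refine ⟨r ^ (k + 1), pow_mem hr _, ?_⟩
      rw [← pow_add]
      have h2 : r ^ (2 * k + 1) = 1 := congrArg Subtype.val h1
      have h3 : k + 1 + (k + 1) = 2 * k + 1 + 1 := by ring
      rw [h3, pow_succ, h2, one_mul]
    obtain ⟨y, hy, e⟩ := H.sur x hx.1 hxR s hs
    have htx : t * x * t⁻¹ = x := by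
      rw [← mem_centralizer_singleton_iff.1 hx.2, mul_inv_cancel_right]
    have hti : t⁻¹ = t := inv_eq_of_mul_eq_one_right htt
    set y' := t * y * t⁻¹ with hy'
    have hy'Q : y' ∈ Q := htQ y hy
    have e' : ⁅x, y'⁆ = s := by
      have h1 : ⁅x, y'⁆ = t * ⁅x, y⁆ * t⁻¹ := by
        have h2 : ⁅x, y'⁆ = ⁅t * x * t⁻¹, t * y * t⁻¹⁆ := by rw [htx]
        rw [h2, commutatorElement_def, commutatorElement_def]; group
      rw [h1, e, htR s hs, mul_inv_cancel_right]
    have hty' : t * y' * t⁻¹ = y := by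
      rw [hy', hti]
      calc t * (t * y * t) * t = (t * t) * y * (t * t) := by group
        _ = y := by rw [htt, one_mul, mul_one]
    -- `y y'` commutes with `t`
    set c := ⁅y', y⁆ with hc
    have hcR : c ∈ R := H.der _ hy'Q _ hy
    have h1 : t * (y * y') * t⁻¹ = c * (y * y') := by
      have h2 : t * (y * y') * t⁻¹ = (t * y * t⁻¹) * (t * y' * t⁻¹) := by group
      rw [h2, hty', ← hy', hc, commutatorElement_def]; group
    have hcc : c * c = 1 := by
      have h3 : t * (t * (y * y') * t⁻¹) * t⁻¹ = y * y' := by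
        have h4 : t * (t * (y * y') * t⁻¹) * t⁻¹ = (t * t) * (y * y') * (t * t)⁻¹ := by group
        rw [h4, htt, one_mul, inv_one, mul_one]
      rw [h1] at h3
      have h5 : t * (c * (y * y')) * t⁻¹ = c * (t * (y * y') * t⁻¹) := by
        have h6 := htR c hcR
        calc t * (c * (y * y')) * t⁻¹ = (t * c) * (y * y') * t⁻¹ := by group
          _ = c * (t * (y * y') * t⁻¹) := by rw [h6]; group
      rw [h5, h1, ← mul_assoc] at h3
      exact mul_eq_right.1 h3
    have hc1 : c = 1 := by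
      have h2 : orderOf (⟨c, hcR⟩ : R) ∣ 2 := orderOf_dvd_of_pow_eq_one (by
        rw [pow_two]
        exact Subtype.ext hcc)
      have h3 : orderOf (⟨c, hcR⟩ : R) ∣ Nat.card R := orderOf_dvd_natCard _
      have h4 : orderOf (⟨c, hcR⟩ : R) ∣ 1 := by
        rw [← Nat.Coprime.gcd_eq_one (Nat.coprime_two_left.2 ho)]
        exact Nat.dvd_gcd h2 h3
      exact congrArg Subtype.val (orderOf_eq_one_iff.1 (Nat.dvd_one.1 h4))
    refine ⟨y * y', ⟨mul_mem hy hy'Q, ?_⟩, ?_⟩
    · rw [hc1, one_mul, mul_inv_eq_iff_eq_mul] at h1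
      exact mem_centralizer_singleton_iff.2 h1.symm
    · have h2 : ⁅x, y * y'⁆ = ⁅x, y⁆ * (y * ⁅x, y'⁆ * y⁻¹) := by
        rw [commutatorElement_def, commutatorElement_def, commutatorElement_def]; group
      rw [h2, e, e', ← H.cen s hs y hy, mul_inv_cancel_right, hsr]

end

end Cfsg.Agent.H190.IF
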