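import Cfsg.Agent.H203.IF.Heis
import Cfsg.Agent.H190.IF.Heis
import Cfsg.Agent.H255.IF.Key
import Cfsg.Agent.H557.LrSgn
import Cfsg.Agent.KFacts.RgdSL

/-!
# S5719: simply laced root group data (helper190)

* `heis_root` : the Heisenberg datum `X α, X β, ⟨β, α^∨⟩ = 1`;
* `norm_QQ` : normalisation by root groups orthogonal to `α`;
* `card_QQ`, `odd_QQ`;
* `card_cent_ge` : `|T| |U_φ|² ≤ |C(t)|` for a sign element `t`;
* `index_bound`.
-/

set_option autoImplicit false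
set_option linter.unusedSectionVars false

namespace Cfsg.Agent.H190.IF

open CoxeterSystem Cfsg.Agent.ChevalleyStructure.CoxeterGeom Cfsg.Agent.Tits.Roots Cfsg.Agent.Tits.Core
  Cfsg.Agent.Tits.Exchange Cfsg.Agent.Nodes.Reps Cfsg.Agent.Nodes.BNOf Cfsg.Agent.Nodes.StabComb
  Cfsg.Agent.Nodes.Bruhat Cfsg.Agent.Nodes.OppDec Cfsg.Agent.Nodes.PosPair Cfsg.Agent.Nodes.Coroot
  Cfsg.Agent.Nodes.Unique Cfsg.Agent.KFacts.RgdSL Cfsg.Agent.H557.LrSgn
open scoped commutatorElement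

variable {I W Y : Type*} [Fintype I] [DecidableEq I] [Group W] [Group Y] {M : CoxeterMatrix I}
  {cs : CoxeterSystem M W} {A : I → I → ℤ} {h : IsCartan M A} {p : ℕ} {T : Subgroup Y} {n : I → Y}
  {X : (I → ℤ) → Subgroup Y}

section

variable [Finite W] (R : RGD cs h p T n X) (hs : SL cs h)
  (hab : ∀ α, IsRoot cs h α → ∀ u ∈ X α, ∀ v ∈ X α, u * v = v * u)

include R hs hab

/-- root groups at an acute or right angle commute -/
theorem comm_ge {β γ : I → ℤ} (hβ : IsRoot cs h β) (hγ : IsRoot cs h γ) (hc : 0 ≤ cpr cs h β γ) {u v : Y}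
    (hu : u ∈ X β) (hv : v ∈ X γ) : u * v = v * u := by
  by_cases hβγ : β = γ
  · subst hβγ
    exact hab β hβ u hu v hv
  · have hβγ' : β ≠ -γ := by
      rintro rfl
      rw [cpr_neg_left _ hγ, cpr_self cs h hγ] at hc
      omega
    exact comm_of_not_btwn R hβ hγ hβγ hβγ' (fun z => hs.not_btwn hβ hγ hβγ hc z) hu hv

/-- **the Heisenberg datum of a root** -/
theorem heis_root {α : I → ℤ} (hα : IsRoot cs h α) (S : Finset (I → ℤ))
    (hS : ∀ β ∈ S, IsRoot cs h β ∧ cpr cs h β α = 1) (ho : ∀ β ∈ S, α - β ∈ S) :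
    H203.IF.Heis (X α) X S (fun β => α - β) := by
  have hA2 : ∀ β ∈ S, A2 cs h β (α - β) := by
    intro β hβ
    obtain ⟨h1, h2⟩ := hS β hβ
    obtain ⟨h3, h4⟩ := hS _ (ho β hβ)
    have h5 : cpr cs h (α - β) β = -1 := by
      have e : α - β = α + (-1 : ℤ) • β := by rw [neg_one_smul, sub_eq_add_neg]
      rw [e, cpr_add cs h _ _ h1, cpr_smul cs h _ _ h1, cpr_self cs h h1, hs α β hα h1, h2]
      norm_num
    exact hs.a2 h1 h3 (by rw [hs β (α - β) h1 h3, h5])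
  have hsum : ∀ β : I → ℤ, β + (α - β) = α := fun β => by abel
  refine ⟨ho, fun β _ => by abel, hab α hα, ?_, ?_, ?_, ?_⟩
  · intro z hz β hβ a ha
    refine comm_ge R hs hab hα (hS β hβ).1 ?_ hz ha
    rw [hs α β hα (hS β hβ).1, (hS β hβ).2]
    norm_num
  · intro β hβ γ hγ hne a ha b hb
    obtain ⟨h1, h2⟩ := hS β hβ
    obtain ⟨h3, h4⟩ := hS γ hγ
    refine comm_ge R hs hab h1 h3 ?_ ha hb
    by_contra hcon
    push Not at hcon
    by_cases hβγ : β = -γ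
    · rw [hβγ, cpr_neg_left _ hα, h4] at h2
      omega
    by_cases hβγ' : β = γ
    · rw [hβγ', cpr_self cs h h3] at hcon
      omega
    have h5 := (hs.abs_le h1 h3 hβγ' hβγ).1
    have h6 : cpr cs h β γ = -1 := by omega
    have h7 := isRoot_add h1 h3 h6
    have h8 : cpr cs h (β + γ) α = 2 := by rw [cpr_add cs h _ _ hα, h2, h4]; norm_num
    have h9 := hs.eq_of_cpr h7 hα (by omega)
    exact hne (by rw [← h9]; abel)
  · intro β hβ a ha b hb
    have h1 := A2.comm_mem R (hA2 β hβ) ha hb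
    rwa [hsum] at h1
  · intro β hβ a ha ha1 z hz
    exact A2.comm_surj R (hA2 β hβ) ha ha1 (by rwa [hsum])

omit R hs hab in
theorem QQ_eq {α : I → ℤ} (S : Finset (I → ℤ)) :
    H203.IF.QQ (X α) X S = RGD.Sup X (insert α (S : Set (I → ℤ))) := by
  apply le_antisymm
  · refine H203.IF.Heis.QQ_le (RGD.le_Sup (Set.mem_insert _ _)) fun β hβ => RGD.le_Sup (Set.mem_insert_of_mem _ hβ)
  · refine RGD.Sup_le ?_
    rintro z (rfl | hz)
    · exact H203.IF.Heis.Z_le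
    · exact H203.IF.Heis.X_le (Finset.mem_coe.1 hz)

/-- normalisation by orthogonal root groups -/
theorem norm_QQ {α : I → ℤ} (hα : IsRoot cs h α) (S : Finset (I → ℤ))
    (hS : ∀ β ∈ S, IsRoot cs h β ∧ cpr cs h β α = 1) {E : Set (I → ℤ)}
    (hE : ∀ γ ∈ E, IsRoot cs h γ ∧ cpr cs h γ α = 0)
    (hES : ∀ γ ∈ E, ∀ β ∈ S, IsRoot cs h (γ + β) → γ + β ∈ S) {l : Y} (hl : l ∈ RGD.Sup X E) {u : Y}
    (hu : u ∈ H203.IF.QQ (X α) X S) : l * u * l⁻¹ ∈ H203.IF.QQ (X α) X S := by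
  rw [QQ_eq] at hu ⊢
  have h1 : RGD.Sup X E ≤ Subgroup.normalizer (RGD.Sup X (insert α (S : Set (I → ℤ))) : Set Y) := by
    refine RGD.Sup_le fun γ hγ => R.le_normalizer (hE γ hγ).1 ?_
    obtain ⟨hγr, hγα⟩ := hE γ hγ
    rintro y (rfl | hy)
    · refine ⟨hα, Or.inr ⟨?_, fun z hz => ?_⟩⟩
      · rintro rfl
        rw [cpr_neg_left _ hα, cpr_self cs h hα] at hγα
        omega
      · exact absurd hz (hs.not_btwn hγr hα (by
          rintro rfl
          rw [cpr_self cs h hα] at hγα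
          omega) (by rw [hγα]) z)
    · obtain ⟨hyr, hyα⟩ := hS y (Finset.mem_coe.1 hy)
      have hne : γ ≠ y := by
        rintro rfl
        omega
      have hne' : γ ≠ -y := by
        rintro rfl
        rw [cpr_neg_left _ hα, hyα] at hγα
        omega
      refine ⟨hyr, Or.inr ⟨hne', fun z hz => ?_⟩⟩
      obtain ⟨h2, h3⟩ := hs.btwn hγr hyr hne hne' hz
      rw [h3]
      exact Set.mem_insert_of_mem _ (Finset.mem_coe.2 (hES γ hγ y (Finset.mem_coe.1 hy) (isRoot_add hγr hyr h2)))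
  exact (Subgroup.mem_normalizer_iff.1 (h1 hl) u).1 hu

end

section

variable {ι : Type*} {Z : Subgroup Y} {P : ι → Subgroup Y} {S : Finset ι} {o : ι → ι}

/-- the order of a Heisenberg group -/
theorem card_QQ [Finite Y] (H : H203.IF.Heis Z P S o) (hZ : Z ≠ ⊥) :
    Nat.card (H203.IF.QQ Z P S) = Nat.card Z * ∏ i ∈ S, Nat.card (P i) := by
  classical
  refine le_antisymm ?_ (H.card_ge hZ)
  have h2 : ∏ i : S, Nat.card (P i) = ∏ i ∈ S, Nat.card (P i) := by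
    rw [← Finset.prod_coe_sort S (fun i => Nat.card (P i))]
  rw [← h2, ← Nat.card_pi, ← Nat.card_prod]
  let ex : ((i : S) → P i) → ι → Y := fun a i => if h : i ∈ S then (a ⟨i, h⟩ : Y) else 1
  refine Nat.card_le_card_of_surjective (fun p : Z × ((i : S) → P i) =>
    (⟨p.1 * H203.IF.Heis.pr (ex p.2) S.toList, mul_mem (H203.IF.Heis.Z_le p.1.2)
      (H203.IF.Heis.pr_mem (fun i hi => Finset.mem_toList.1 hi) (fun i hi => by
        simp only [ex, dif_pos hi]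
        exact (p.2 ⟨i, hi⟩).2))⟩ : H203.IF.QQ Z P S)) ?_
  rintro ⟨g, hg⟩
  obtain ⟨a, ha, z, hz, rfl⟩ := H.nf hg
  refine ⟨(⟨z, hz⟩, fun i => ⟨a i, ha i i.2⟩), ?_⟩
  apply Subtype.ext
  show z * _ = z * _
  congr 1
  unfold H203.IF.Heis.pr
  congr 1
  apply List.map_congr_left
  intro i hi
  simp only [ex, dif_pos (Finset.mem_toList.1 hi)]

theorem card_QQ' [Finite Y] (H : H203.IF.Heis Z P S o) (hZ : Z ≠ ⊥) {q : ℕ} (hq : Nat.card Z = q)
    (hqP : ∀ i ∈ S, Nat.card (P i) = q) : Nat.card (H203.IF.QQ Z P S) = q ^ (S.card + 1) := by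
  rw [card_QQ H hZ, hq, Finset.prod_congr rfl hqP, Finset.prod_const, pow_succ, mul_comm]

end

section

variable [Finite W] [Finite Y] (R : RGD cs h p T n X) (hs : SL cs h)

include R hs

/-- the order of `⟨X x : x > 0, φ x = 0⟩` -/
theorem card_Uphi {q : ℕ} (hq : ∀ α, IsRoot cs h α → Nat.card (X α) = q) (φ : (I → ℤ) →+ ZMod 2)
    (S : Finset (I → ℤ)) (hS : ∀ x, x ∈ S ↔ IsRoot cs h x ∧ 0 ≤ x ∧ φ x = 0) :
    Nat.card (RGD.Sup X (S : Set (I → ℤ))) = q ^ S.card := by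
  have hpos : (S : Set (I → ℤ)) ⊆ RGD.Pos cs h := fun x hx => by
    obtain ⟨h1, h2, -⟩ := (hS x).1 (Finset.mem_coe.1 hx)
    exact ⟨h1, h2⟩
  rw [Cfsg.Agent.Nodes.CardSup.card_sup R hpos ?_]
  · rw [Finset.prod_congr rfl (fun x hx => hq x ((hS x).1 hx).1), Finset.prod_const]
  · intro x hx y hy z hz
    obtain ⟨hxr, hx0, hxφ⟩ := (hS x).1 (Finset.mem_coe.1 hx)
    obtain ⟨hyr, hy0, hyφ⟩ := (hS y).1 (Finset.mem_coe.1 hy)
    by_cases hxy : x = y
    · subst hxy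
      rw [btwn_self hxr hz]
      exact hx
    by_cases hxy' : x = -y
    · exfalso
      have h1 : x = 0 := by
        apply le_antisymm _ hx0
        rw [hxy']
        exact neg_nonpos.2 hy0
      exact hxr.ne_zero h1
    obtain ⟨h1, h2⟩ := hs.btwn hxr hyr hxy hxy' hz
    refine Finset.mem_coe.2 ((hS z).2 ⟨hz.1, ?_, ?_⟩)
    · rw [h2]
      exact add_nonneg hx0 hy0
    · rw [h2, map_add, hxφ, hyφ, add_zero]

/-- the order of `⟨X x : x < 0, φ x = 0⟩` -/
theorem card_Uneg {q : ℕ} (hq : ∀ α, IsRoot cs h α → Nat.card (X α) = q) (φ : (I → ℤ) →+ ZMod 2)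
    (S : Finset (I → ℤ)) (hS : ∀ x, x ∈ S ↔ IsRoot cs h x ∧ 0 ≤ x ∧ φ x = 0) :
    Nat.card (RGD.Sup X {x | -x ∈ S}) = q ^ S.card := by
  classical
  obtain ⟨k, hk⟩ := exists_rp cs R.nsys (w0 cs)
  let g : (I → ℤ) → (I → ℤ) := fun x => -rep cs h (w0 cs) x
  have hg : Function.Injective g := by
    intro a b hab
    have h1 : rep cs h (w0 cs) a = rep cs h (w0 cs) b := neg_injective hab
    have h2 := congrArg (rep cs h (w0 cs)⁻¹) h1
    rwa [rep_inv_apply, rep_inv_apply] at h2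
  let S' : Finset (I → ℤ) := S.image g
  have hS' : ∀ x, x ∈ S' ↔ IsRoot cs h x ∧ 0 ≤ x ∧ (φ.comp (rep cs h (w0 cs)⁻¹).toAddMonoidHom) x = 0 := by
    intro x
    constructor
    · intro hx
      obtain ⟨y, hy, rfl⟩ := Finset.mem_image.1 hx
      obtain ⟨h1, h2, h3⟩ := (hS y).1 hy
      refine ⟨(h1.act _).neg, neg_nonneg.2 (rep_w0_nonpos h1 h2), ?_⟩
      show φ (rep cs h (w0 cs)⁻¹ (-rep cs h (w0 cs) y)) = 0
      rw [map_neg, rep_inv_apply, map_neg, h3, neg_zero]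
    · rintro ⟨h1, h2, h3⟩
      refine Finset.mem_image.2 ⟨-rep cs h (w0 cs)⁻¹ x, ?_, ?_⟩
      · rw [hS]
        have h4 : IsRoot cs h (rep cs h (w0 cs)⁻¹ x) := h1.act _
        refine ⟨h4.neg, ?_, ?_⟩
        · rcases h4.pos_or_neg with h5 | h5
          · exfalso
            have h6 := rep_w0_nonpos h4 h5
            rw [rep_apply_inv] at h6
            exact h1.not_pos_neg h2 h6
          · exact neg_nonneg.2 h5
        · rw [map_neg]
          have h3' : φ (rep cs h (w0 cs)⁻¹ x) = 0 := h3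
          rw [h3', neg_zero]
      · show -rep cs h (w0 cs) (-rep cs h (w0 cs)⁻¹ x) = x
        rw [map_neg, neg_neg, rep_apply_inv]
  have hc : S'.card = S.card := Finset.card_image_of_injective _ hg
  have e : cj k (RGD.Sup X {x | -x ∈ S}) = RGD.Sup X (S' : Set (I → ℤ)) := ?_
  · rw [← hc, ← card_Uphi R hs hq _ S' hS', ← e]
    exact (Cfsg.Agent.Nodes.CardSup.card_cj _).symm
  apply le_antisymm
  · rw [RGD.cj_Sup]
    refine iSup_le ?_
    rintro ⟨y, hy⟩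
    have hyS : -y ∈ S := hy
    have hyr : IsRoot cs h y := by
      have := ((hS _).1 hyS).1.neg
      rwa [neg_neg] at this
    show cj k (X y) ≤ _
    rw [R.conj_rp hk hyr]
    refine RGD.le_Sup (Finset.mem_coe.2 (Finset.mem_image.2 ⟨-y, hyS, ?_⟩))
    show -rep cs h (w0 cs) (-y) = _
    rw [map_neg, neg_neg]
  · refine RGD.Sup_le fun z hz => ?_
    obtain ⟨y, hy, rfl⟩ := Finset.mem_image.1 (Finset.mem_coe.1 hz)
    have hyr := ((hS y).1 hy).1
    have h1 : X (g y) = cj k (X (-y)) := by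
      rw [R.conj_rp hk hyr.neg, map_neg]
    rw [h1]
    refine cj_mono k (RGD.le_Sup ?_)
    show - -y ∈ S
    rwa [neg_neg]

/-- **the big cell of the centraliser of a sign element** -/
theorem card_cent_ge (hTc : ∀ a ∈ T, ∀ b ∈ T, a * b = b * a) {q : ℕ}
    (hq : ∀ α, IsRoot cs h α → Nat.card (X α) = q) {φ : (I → ℤ) →+ ZMod 2} {t : Y} (ht : SgnEl cs h T X φ t)
    (S : Finset (I → ℤ)) (hS : ∀ x, x ∈ S ↔ IsRoot cs h x ∧ 0 ≤ x ∧ φ x = 0) :
    Nat.card T * q ^ (2 * S.card) ≤ Nat.card (Subgroup.centralizer ({t} : Set Y)) := by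
  classical
  have e1 := card_Uphi R hs hq φ S hS
  have e2 := card_Uneg R hs hq φ S hS
  have hU1 : RGD.Sup X (S : Set (I → ℤ)) ≤ Subgroup.centralizer {t} := by
    refine RGD.Sup_le fun x hx u hu => ?_
    obtain ⟨h1, -, h2⟩ := (hS x).1 (Finset.mem_coe.1 hx)
    exact Subgroup.mem_centralizer_singleton_iff.2 (ht.fix x h1 h2 u hu).symm
  have hU2 : RGD.Sup X {x | -x ∈ S} ≤ Subgroup.centralizer {t} := by
    refine RGD.Sup_le fun x hx u hu => ?_
    obtain ⟨h1, -, h2⟩ := (hS (-x)).1 hx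
    have h3 : IsRoot cs h x := by
      have := h1.neg
      rwa [neg_neg] at this
    have h4 : φ x = 0 := by rwa [map_neg, neg_eq_zero] at h2
    exact Subgroup.mem_centralizer_singleton_iff.2 (ht.fix x h3 h4 u hu).symm
  have hT : T ≤ Subgroup.centralizer {t} := fun s hs =>
    Subgroup.mem_centralizer_singleton_iff.2 (hTc s hs t ht.mem)
  have hU1' : RGD.Sup X (S : Set (I → ℤ)) ≤ RGD.Sup X (RGD.Pos cs h) := RGD.Sup_mono fun x hx => by
    obtain ⟨h1, h2, -⟩ := (hS x).1 (Finset.mem_coe.1 hx)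
    exact ⟨h1, h2⟩
  have hU2' : RGD.Sup X {x | -x ∈ S} ≤ UN cs h X := RGD.Sup_le fun x hx => by
    obtain ⟨h1, h2, -⟩ := (hS (-x)).1 hx
    have h3 : IsRoot cs h x := by
      have := h1.neg
      rwa [neg_neg] at this
    exact X_le_UN h3 (neg_nonneg.1 h2)
  have hinj : Function.Injective (fun x : ↥(RGD.Sup X {x | -x ∈ S}) × T × ↥(RGD.Sup X (S : Set (I → ℤ))) =>
      (⟨(x.1 : Y) * (x.2.1 * x.2.2), mul_mem (hU2 x.1.2) (mul_mem (hT x.2.1.2) (hU1 x.2.2.2))⟩ :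
        Subgroup.centralizer ({t} : Set Y))) := by
    rintro ⟨⟨v, hv⟩, ⟨s, hs⟩, ⟨u, hu⟩⟩ ⟨⟨v', hv'⟩, ⟨s', hs'⟩, ⟨u', hu'⟩⟩ e
    have e0 : v * (s * u) = v' * (s' * u') := congrArg Subtype.val e
    have e3 : v'⁻¹ * v = s' * u' * (s * u)⁻¹ := by
      rw [eq_mul_inv_iff_mul_eq, mul_assoc, e0]; group
    have h1 : v'⁻¹ * v ∈ RGD.B cs h T X := by
      rw [e3]
      exact mul_mem (mul_mem (RGD.T_le_B hs') (RGD.U_le_B (hU1' hu')))
        (inv_mem (mul_mem (RGD.T_le_B hs) (RGD.U_le_B (hU1' hu))))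
    have h2 := eq_one_of_mem_UN_of_mem_B R (mul_mem (inv_mem (hU2' hv')) (hU2' hv)) h1
    have h3 : v = v' := (inv_mul_eq_one.1 h2).symm
    subst h3
    have e4 : s * u = s' * u' := mul_left_cancel e0
    have e5 : s'⁻¹ * s = u' * u⁻¹ := by
      rw [eq_mul_inv_iff_mul_eq, mul_assoc, e4]; group
    have h4 : u' * u⁻¹ ∈ RGD.Sup X (RGD.Pos cs h) ⊓ T :=
      Subgroup.mem_inf.2 ⟨mul_mem (hU1' hu') (inv_mem (hU1' hu)), by rw [← e5]; exact mul_mem (inv_mem hs') hs⟩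
    rw [U_inf_T R, Subgroup.mem_bot] at h4
    have h5 : u' = u := mul_inv_eq_one.1 h4
    subst h5
    have h6 : s = s' := mul_right_cancel e4
    subst h6
    rfl
  have h1 := Nat.card_le_card_of_injective _ hinj
  rw [Nat.card_prod, Nat.card_prod, e1, e2] at h1
  calc Nat.card T * q ^ (2 * S.card) = q ^ S.card * (Nat.card T * q ^ S.card) := by ring
    _ ≤ _ := h1

/-- the length of the class of a sign element -/
theorem index_bound (hTc : ∀ a ∈ T, ∀ b ∈ T, a * b = b * a) {q : ℕ}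
    (hq : ∀ α, IsRoot cs h α → Nat.card (X α) = q) {φ : (I → ℤ) →+ ZMod 2} {t : Y} (ht : SgnEl cs h T X φ t)
    (S : Finset (I → ℤ)) (hS : ∀ x, x ∈ S ↔ IsRoot cs h x ∧ 0 ≤ x ∧ φ x = 0) {c N : ℕ} (hq0 : 0 < q)
    (hcard : Nat.card Y * c ≤ Nat.card T * q ^ (2 * S.card + N)) :
    (Subgroup.centralizer ({t} : Set Y)).index * c ≤ q ^ N := by
  have h1 := card_cent_ge R hs hTc hq ht S hS
  have h2 := (Subgroup.centralizer ({t} : Set Y)).index_mul_card
  have hT : 0 < Nat.card T := Nat.card_pos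
  have hpos : 0 < Nat.card T * q ^ (2 * S.card) := Nat.mul_pos hT (pow_pos hq0 _)
  refine Nat.le_of_mul_le_mul_left (c := Nat.card T * q ^ (2 * S.card)) ?_ hpos
  calc Nat.card T * q ^ (2 * S.card) * ((Subgroup.centralizer ({t} : Set Y)).index * c)
      = (Subgroup.centralizer ({t} : Set Y)).index * (Nat.card T * q ^ (2 * S.card)) * c := by ring
    _ ≤ (Subgroup.centralizer ({t} : Set Y)).index * Nat.card (Subgroup.centralizer ({t} : Set Y)) * c :=
      Nat.mul_le_mul_right _ (Nat.mul_le_mul_left _ h1)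
    _ = Nat.card Y * c := by rw [h2]
    _ ≤ _ := hcard
    _ = _ := by rw [pow_add]; ring

end

end Cfsg.Agent.H190.IF
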